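import Mathlib
import Groth.Agent.S1182
import Groth.Agent.WeakEt.Basic

/-! Reduced and normal local rings go up and down along étale morphisms. -/

set_option autoImplicit false
set_option linter.style.haveILetI false

universe u

open CategoryTheory AlgebraicGeometry

namespace Groth.Agent.EtaleLocalProps

theorem atPrime_ascend (A B : Type u) [CommRing A] [CommRing B] [Algebra A B] [Algebra.Etale A B]
    (q : Ideal B) [q.IsPrime] :
    (IsReduced (Localization.AtPrime (q.under A)) → IsReduced (Localization.AtPrime q)) ∧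
    (IsDomain (Localization.AtPrime (q.under A)) ∧
        IsIntegrallyClosed (Localization.AtPrime (q.under A)) →
      IsDomain (Localization.AtPrime q) ∧ IsIntegrallyClosed (Localization.AtPrime q)) := by
  let p := q.under A
  let B' := Localization (Algebra.algebraMapSubmonoid B p.primeCompl)
  haveI : Algebra.IsPushout A (Localization.AtPrime p) B B' :=
    .symm <| Algebra.isPushout_of_isLocalization p.primeCompl _ _ _
  haveI : Algebra.Etale (Localization.AtPrime p) B' :=
    .of_equiv (Algebra.IsPushout.equiv A (Localization.AtPrime p) B B')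
  have hdisj : Disjoint (Algebra.algebraMapSubmonoid B p.primeCompl : Set B) (q : Set B) := by
    rw [Set.disjoint_left]
    rintro _ ⟨x, hx, rfl⟩ h
    exact hx h
  let q' : Ideal B' := q.map (algebraMap B B')
  haveI hq' : q'.IsPrime :=
    IsLocalization.isPrime_of_isPrime_disjoint (Algebra.algebraMapSubmonoid B p.primeCompl) _ q ‹_› hdisj
  have hcomap : q'.comap (algebraMap B B') = q :=
    IsLocalization.comap_map_of_isPrime_disjoint (Algebra.algebraMapSubmonoid B p.primeCompl) B' ‹_› hdisj
  haveI : IsLocalization.AtPrime (Localization.AtPrime q') q := by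
    have := IsLocalization.isLocalization_isLocalization_atPrime_isLocalization
      (S := B') (Algebra.algebraMapSubmonoid B p.primeCompl) (Localization.AtPrime q') q'
    simpa only [hcomap] using this
  let e := IsLocalization.algEquiv q.primeCompl (Localization.AtPrime q') (Localization.AtPrime q)
  refine ⟨fun _ => ?_, fun h => ?_⟩
  · haveI : Algebra.WeaklyEtale (Localization.AtPrime p) B' := inferInstance
    haveI : IsReduced B' := WeakEt.isReduced_of_weaklyEtale (Localization.AtPrime p) B'
    haveI : IsReduced (Localization.AtPrime q') := inferInstance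
    exact isReduced_of_injective e.symm.toRingHom e.symm.injective
  · haveI : IsDomain (Localization.AtPrime p) := h.1
    haveI : IsIntegrallyClosed (Localization.AtPrime p) := h.2
    obtain ⟨h1, h2⟩ := S1182.normal_atPrime_of_smooth (Localization.AtPrime p) B' q'
    exact ⟨e.symm.toRingEquiv.injective.isDomain, IsIntegrallyClosed.of_equiv e.toRingEquiv⟩

variable {X Y : Scheme.{u}} (f : X ⟶ Y) [Etale f] (x : X)

theorem exists_chart : ∃ (A B : CommRingCat.{u}) (φ : A ⟶ B),
    letI := φ.hom.toAlgebra
    Algebra.Etale A B ∧ ∃ (q : Ideal B) (_ : q.IsPrime),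
      Nonempty (Y.presheaf.stalk (f x) ≃+* Localization.AtPrime (q.under A)) ∧
      Nonempty (X.presheaf.stalk x ≃+* Localization.AtPrime q) := by
  obtain ⟨V, hV, hxV, -⟩ := exists_isAffineOpen_mem_and_subset (U := ⊤) (x := f x) trivial
  obtain ⟨U, hU, hxU, hUV⟩ := exists_isAffineOpen_mem_and_subset (U := f ⁻¹ᵁ V) (x := x) hxV
  refine ⟨Γ(Y, V), Γ(X, U), f.appLE V U hUV, ?_, (hU.primeIdealOf ⟨x, hxU⟩).asIdeal, inferInstance, ?_, ?_⟩
  · exact HasRingHomProperty.appLE (P := @Etale) f inferInstance ⟨V, hV⟩ ⟨U, hU⟩ hUV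
  · letI := (f.appLE V U hUV).hom.toAlgebra
    have he : (hV.primeIdealOf ⟨f x, hxV⟩).asIdeal =
        (hU.primeIdealOf ⟨x, hxU⟩).asIdeal.under Γ(Y, V) :=
      congrArg PrimeSpectrum.asIdeal (IsAffineOpen.comap_primeIdealOf_appLE (f := f) (x := x) V hV U hU hUV hxU).symm
    letI := TopCat.Presheaf.algebra_section_stalk Y.presheaf (⟨f x, hxV⟩ : V)
    haveI : IsLocalization.AtPrime (Y.presheaf.stalk (f x))
        ((hU.primeIdealOf ⟨x, hxU⟩).asIdeal.under Γ(Y, V)) := by
      have := hV.isLocalization_stalk ⟨f x, hxV⟩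
      simpa only [he] using this
    exact ⟨(IsLocalization.algEquiv ((hU.primeIdealOf ⟨x, hxU⟩).asIdeal.under Γ(Y, V)).primeCompl
      _ _).toRingEquiv⟩
  · letI := TopCat.Presheaf.algebra_section_stalk X.presheaf (⟨x, hxU⟩ : U)
    haveI := hU.isLocalization_stalk ⟨x, hxU⟩
    exact ⟨(IsLocalization.algEquiv (hU.primeIdealOf ⟨x, hxU⟩).asIdeal.primeCompl _ _).toRingEquiv⟩

theorem faithfullyFlat_stalkMap :
    letI := (f.stalkMap x).hom.toAlgebra
    Module.FaithfullyFlat (Y.presheaf.stalk (f x)) (X.presheaf.stalk x) := by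
  letI := (f.stalkMap x).hom.toAlgebra
  have : Module.Flat (Y.presheaf.stalk (f x)) (X.presheaf.stalk x) := Flat.stalkMap f x
  have : IsLocalHom (algebraMap (Y.presheaf.stalk (f x)) (X.presheaf.stalk x)) := f.toLRSHom.prop x
  exact Module.FaithfullyFlat.of_flat_of_isLocalHom

theorem isReduced_stalk_iff :
    IsReduced (X.presheaf.stalk x) ↔ IsReduced (Y.presheaf.stalk (f x)) := by
  constructor
  · intro h
    letI := (f.stalkMap x).hom.toAlgebra
    haveI := faithfullyFlat_stalkMap f x
    exact isReduced_of_injective (algebraMap (Y.presheaf.stalk (f x)) (X.presheaf.stalk x))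
      (FaithfulSMul.algebraMap_injective _ _)
  · intro h
    obtain ⟨A, B, φ, hφ, q, hq, ⟨eY⟩, ⟨eX⟩⟩ := exists_chart f x
    letI := φ.hom.toAlgebra
    haveI := hφ
    have := (atPrime_ascend A B q).1 (isReduced_of_injective eY.symm.toRingHom eY.symm.injective)
    exact isReduced_of_injective eX.toRingHom eX.injective

theorem isNormal_stalk_iff :
    (IsDomain (X.presheaf.stalk x) ∧ IsIntegrallyClosed (X.presheaf.stalk x)) ↔
      (IsDomain (Y.presheaf.stalk (f x)) ∧ IsIntegrallyClosed (Y.presheaf.stalk (f x))) := by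
  constructor
  · rintro ⟨_, _⟩
    letI := (f.stalkMap x).hom.toAlgebra
    haveI := faithfullyFlat_stalkMap f x
    exact Hensel.normal_of_faithfullyFlat (S := X.presheaf.stalk x)
  · rintro ⟨_, _⟩
    obtain ⟨A, B, φ, hφ, q, hq, ⟨eY⟩, ⟨eX⟩⟩ := exists_chart f x
    letI := φ.hom.toAlgebra
    haveI := hφ
    obtain ⟨_, _⟩ := (atPrime_ascend A B q).2
      ⟨eY.symm.injective.isDomain eY.symm.toRingHom, IsIntegrallyClosed.of_equiv eY⟩
    exact ⟨eX.injective.isDomain eX.toRingHom, IsIntegrallyClosed.of_equiv eX.symm⟩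

end Groth.Agent.EtaleLocalProps
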